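import Groth.Agent.GenFinite.Algebra
import Groth.Agent.Birat.Generic
import Groth.Agent.FlatMorLib.FiberPoints

/-! Morphisms that are finite over a neighbourhood of a generic point. -/

set_option autoImplicit false
set_option linter.style.haveILetI false
set_option backward.isDefEq.respectTransparency.types false

universe u

open CategoryTheory AlgebraicGeometry TopologicalSpace
open Groth.Agent.Birat (eq_of_specializes_max exists_max_specializes excl mem_excl disjoint_excl isOpen_excl)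

namespace Groth.Agent.GenFinite

variable {X Y Z : Scheme.{u}}

lemma isMinimal_primeIdealOf {V : Y.Opens} (hV : IsAffineOpen V) {η : Y} (hη : η ∈ Groth.Agent.Birat.Max Y) (hηV : η ∈ V) :
    (hV.primeIdealOf ⟨η, hηV⟩).asIdeal ∈ minimalPrimes Γ(Y, V) := by
  refine ⟨⟨(hV.primeIdealOf ⟨η, hηV⟩).isPrime, bot_le⟩, fun J hJ hle => ?_⟩
  haveI := hJ.1
  have h1 : (⟨J, hJ.1⟩ : PrimeSpectrum Γ(Y, V)) ⤳ hV.primeIdealOf ⟨η, hηV⟩ :=
    (PrimeSpectrum.le_iff_specializes _ _).mp hle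
  have e : hV.fromSpec (hV.primeIdealOf ⟨η, hηV⟩) = η := hV.fromSpec_primeIdealOf ⟨η, hηV⟩
  have h2 : hV.fromSpec (⟨J, hJ.1⟩ : Spec Γ(Y, V)) ⤳ η := by
    have h := h1.map hV.fromSpec.continuous
    rwa [e] at h
  have h3 := eq_of_specializes_max hη h2
  rw [← hV.fromSpec.isOpenEmbedding.injective (h3.trans e.symm)]

lemma fromSpec_comap (f : X ⟶ Y) {V : Y.Opens} (hV : IsAffineOpen V) {U : X.Opens} (hU : IsAffineOpen U)
    (e : U ≤ f ⁻¹ᵁ V) (q : PrimeSpectrum Γ(X, U)) :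
    f.base (hU.fromSpec q) = hV.fromSpec (PrimeSpectrum.comap (f.appLE V U e).hom q) := by
  have h := IsAffineOpen.SpecMap_appLE_fromSpec f hV hU e
  exact (congrArg (fun g => (g : _ ⟶ Y).base q) h).symm

lemma exists_isNilpotent {A B : Type u} [CommRing A] [CommRing B] (φ : A →+* B) (p : Ideal A) [p.IsPrime]
    (hp : p ∈ minimalPrimes A) (h : ∀ q : PrimeSpectrum B, q.asIdeal.comap φ ≠ p) :
    ∃ g ∉ p, φ g = 0 := by
  by_cases h0 : (0 : B) ∈ Submonoid.map φ p.primeCompl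
  · obtain ⟨g, hg, e⟩ := h0
    exact ⟨g, hg, e⟩
  · exfalso
    have hdisj : Disjoint (((⊥ : Ideal B)) : Set B) (Submonoid.map φ p.primeCompl) :=
      Set.disjoint_left.mpr fun a ha ha' => h0 ((Ideal.mem_bot.mp ha) ▸ ha')
    obtain ⟨q, hq, -, hqS⟩ := Ideal.exists_le_prime_disjoint (⊥ : Ideal B) _ hdisj
    have hle : q.comap φ ≤ p := fun a ha => by
      by_contra hn
      exact Set.disjoint_left.mp hqS ha ⟨a, hn, rfl⟩
    exact h ⟨q, hq⟩ (le_antisymm hle (hp.2 ⟨inferInstance, bot_le⟩ hle))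

/-- A quasi-compact morphism missing a generic point misses a neighbourhood of it. -/
theorem exists_nhd_disjoint (g : Z ⟶ Y) [QuasiCompact g] (η : Y) (hη : η ∈ Groth.Agent.Birat.Max Y)
    (h : ∀ z, g.base z ≠ η) : ∃ V : Y.Opens, η ∈ V ∧ ∀ z, g.base z ∉ V := by
  obtain ⟨V, hV, hηV, -⟩ := exists_isAffineOpen_mem_and_subset (Opens.mem_top η)
  have hc : IsCompact ((g ⁻¹ᵁ V : Z.Opens) : Set Z) := g.isCompact_preimage hV.isCompact
  have key : ∀ z ∈ g ⁻¹ᵁ V, ∃ U : Z.Opens, ∃ W : Y.Opens, z ∈ U ∧ η ∈ W ∧ W ≤ V ∧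
      ∀ z' ∈ U, g.base z' ∉ W := by
    intro z hz
    obtain ⟨U, hU, hzU, hUV⟩ := exists_isAffineOpen_mem_and_subset hz
    set p := hV.primeIdealOf ⟨η, hηV⟩
    obtain ⟨a, ha, hnil⟩ := exists_isNilpotent (g.appLE V U hUV).hom p.asIdeal
      (isMinimal_primeIdealOf hV hη hηV) fun q hq => by
        refine h (hU.fromSpec q) ?_
        rw [fromSpec_comap g hV hU hUV q]
        rw [show PrimeSpectrum.comap (g.appLE V U hUV).hom q = p from PrimeSpectrum.ext hq]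
        exact hV.fromSpec_primeIdealOf ⟨η, hηV⟩
    refine ⟨U, Y.basicOpen a, hzU, ?_, Y.basicOpen_le a, fun z' hz' hz'W => ?_⟩
    · have : p ∈ hV.fromSpec ⁻¹ᵁ Y.basicOpen a := by
        rw [hV.fromSpec_preimage_basicOpen]; exact ha
      have e : hV.fromSpec p = η := hV.fromSpec_primeIdealOf ⟨η, hηV⟩
      rw [← e]; exact this
    · have hm : z' ∈ Z.basicOpen (g.appLE V U hUV a) := by
        rw [Scheme.basicOpen_appLE]; exact ⟨hz', hz'W⟩
      rw [show g.appLE V U hUV a = 0 from hnil, Scheme.basicOpen_zero] at hm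
      exact hm
  choose U W hzU hηW hWV hdis using key
  obtain ⟨t, ht⟩ := hc.elim_finite_subcover (fun z : (g ⁻¹ᵁ V : Z.Opens) => (U z.1 z.2 : Set Z))
    (fun z => (U z.1 z.2).2) (fun z hz => Set.mem_iUnion.mpr ⟨⟨z, hz⟩, hzU z hz⟩)
  refine ⟨⟨(V : Set Y) ∩ ⋂ z ∈ t, (W z.1 z.2 : Set Y),
    V.2.inter (isOpen_biInter_finset fun z _ => (W z.1 z.2).2)⟩,
    ⟨hηV, Set.mem_iInter₂.mpr fun z _ => hηW z.1 z.2⟩, fun z hz => ?_⟩
  obtain ⟨hzV, hzW⟩ := hz
  obtain ⟨w, hw, hzw⟩ := Set.mem_iUnion₂.mp (ht hzV)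
  exact hdis w.1 w.2 z hzw (Set.mem_iInter₂.mp hzW w hw)

/-- Affine neighbourhood of finitely many points with pairwise disjoint neighbourhoods. -/
theorem exists_affine_superset (s : Set X) (hs : s.Finite)
    (h : ∀ x ∈ s, ∀ y ∈ s, x ≠ y → ∃ U V : X.Opens, x ∈ U ∧ y ∈ V ∧ Disjoint (U : Set X) V) :
    ∃ U : X.Opens, IsAffineOpen U ∧ s ⊆ U := by
  classical
  choose U V hU hV hd using h
  let N : X → Set X := fun x => ⋂ y ∈ hs.toFinset,
    if hxy : x ∈ s ∧ y ∈ s ∧ x ≠ y then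
      (U x hxy.1 y hxy.2.1 hxy.2.2 : Set X) ∩ V y hxy.2.1 x hxy.1 hxy.2.2.symm
    else Set.univ
  have hN : ∀ x, IsOpen (N x) := fun x => isOpen_biInter_finset fun y _ => by
    split_ifs with hxy
    · exact (U x hxy.1 y hxy.2.1 hxy.2.2).2.inter (V y hxy.2.1 x hxy.1 hxy.2.2.symm).2
    · exact isOpen_univ
  have hxN : ∀ x, x ∈ N x := fun x => Set.mem_iInter₂.mpr fun y _ => by
    split_ifs with hxy
    · exact ⟨hU x hxy.1 y hxy.2.1 hxy.2.2, hV y hxy.2.1 x hxy.1 hxy.2.2.symm⟩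
    · trivial
  choose W hW hxW hWN using fun x : X =>
    exists_isAffineOpen_mem_and_subset (U := ⟨N x, hN x⟩) (hxN x)
  refine ⟨⨆ x ∈ s, W x, IsAffineOpen.biSup_of_disjoint hs (fun x _ => hW x) ?_, fun x hx => ?_⟩
  · intro x hx y hy hxy
    rw [Function.onFun, ← Opens.coe_disjoint, Set.disjoint_left]
    intro z hzx hzy
    have h1 := Set.mem_iInter₂.mp (hWN x hzx) y (hs.mem_toFinset.mpr hy)
    have h2 := Set.mem_iInter₂.mp (hWN y hzy) x (hs.mem_toFinset.mpr hx)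
    rw [dif_pos ⟨hx, hy, hxy⟩] at h1
    rw [dif_pos ⟨hy, hx, hxy.symm⟩] at h2
    exact Set.disjoint_left.mp (hd x hx y hy hxy) h1.1 h2.2
  · exact Opens.mem_iSup.mpr ⟨x, Opens.mem_iSup.mpr ⟨hx, hxW x⟩⟩

/-- Distinct generic points of a quasi-separated scheme have disjoint neighbourhoods. -/
theorem exists_disjoint_nhds [QuasiSeparatedSpace X] {x y : X} (hx : x ∈ Groth.Agent.Birat.Max X) (hy : y ∈ Groth.Agent.Birat.Max X) (hxy : x ≠ y) :
    ∃ U V : X.Opens, x ∈ U ∧ y ∈ V ∧ Disjoint (U : Set X) V := by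
  have hyx : y ∈ (closure ({x} : Set X))ᶜ := fun h =>
    hxy (eq_of_specializes_max hy (specializes_iff_mem_closure.mpr h))
  obtain ⟨V, hV, hyV, hVsub⟩ := exists_isAffineOpen_mem_and_subset
    (U := ⟨_, isClosed_closure.isOpen_compl⟩) hyx
  haveI : IsAffine (V : Scheme.{u}) := hV
  haveI : QuasiCompact V.ι := quasiCompact_of_compactSpace V.ι
  obtain ⟨U, hxU, hU⟩ := exists_nhd_disjoint V.ι x hx fun z e =>
    hVsub z.2 (show z.1 ∈ closure ({x} : Set X) from (show z.1 = x from e) ▸ subset_closure rfl)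
  exact ⟨U, V, hxU, hyV, Set.disjoint_left.mpr fun z hzU hzV => hU ⟨z, hzV⟩ hzU⟩

lemma app_finite_of_appLE (f : X ⟶ Y) {D : Y.Opens} {W : X.Opens} (e : f ⁻¹ᵁ D = W)
    (h : (f.appLE D W e.ge).hom.Finite) : (f.app D).hom.Finite := by
  subst e
  rwa [Scheme.Hom.app_eq_appLE]

lemma isFinite_restrict_of_appLE (f : X ⟶ Y) {D : Y.Opens} {W : X.Opens} (hD : IsAffineOpen D)
    (hW : IsAffineOpen W) (e : f ⁻¹ᵁ D = W) (h : (f.appLE D W e.ge).hom.Finite) : IsFinite (f ∣_ D) := by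
  haveI : IsAffine (D : Scheme.{u}) := hD
  rw [HasAffineProperty.iff_of_isAffine (P := @IsFinite)]
  refine ⟨show IsAffineOpen (f ⁻¹ᵁ D) from e ▸ hW, ?_⟩
  have h' := app_finite_of_appLE f e h
  rw [morphismRestrict_appTop]
  refine RingHom.Finite.comp (RingHom.Finite.of_surjective _
    ((ConcreteCategory.bijective_of_isIso (X.presheaf.map (eqToHom (image_morphismRestrict_preimage f D ⊤)).op)).2)) ?_
  have key : ∀ D' : Y.Opens, D' = D → (f.app D').hom.Finite := by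
    rintro _ rfl; exact h'
  exact key _ D.ι_image_top

set_option maxHeartbeats 800000 in
/-- The core: affine base, the finite fibre inside an affine open. -/
theorem exists_basicOpen_finite (f : X ⟶ Y) [IsAffine Y] [QuasiCompact f] [LocallyOfFiniteType f]
    (η : Y) (hη : η ∈ Groth.Agent.Birat.Max Y) (U : X.Opens) (hU : IsAffineOpen U) (hfib : f.base ⁻¹' {η} ⊆ U)
    (hfin : (f.base ⁻¹' {η}).Finite) :
    ∃ h : Γ(Y, ⊤), η ∈ Y.basicOpen h ∧ IsFinite (f ∣_ Y.basicOpen h) := by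
  let C : Closeds X := ⟨((U : Set X))ᶜ, U.2.isClosed_compl⟩
  let I := Scheme.IdealSheafData.vanishingIdeal C
  have hI : Set.range I.subschemeι = ((U : Set X))ᶜ := by
    rw [Scheme.IdealSheafData.range_subschemeι]
    simp [I, C, Scheme.IdealSheafData.coe_support_vanishingIdeal]
  obtain ⟨V₁, hηV₁, hV₁⟩ := exists_nhd_disjoint (I.subschemeι ≫ f) η hη fun z e => by
    have h1 : I.subschemeι z ∈ ((U : Set X))ᶜ := hI ▸ Set.mem_range_self z
    exact h1 (hfib e)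
  have hV₁U : f ⁻¹ᵁ V₁ ≤ U := by
    intro x hx
    by_contra hxU
    obtain ⟨z, hz⟩ : x ∈ Set.range I.subschemeι := hI ▸ hxU
    exact hV₁ z (show f.base (I.subschemeι z) ∈ V₁ from hz.symm ▸ hx)
  have hYt := isAffineOpen_top Y
  obtain ⟨h₀, hh₀, hηh₀⟩ := hYt.exists_basicOpen_le (V := V₁) ⟨η, hηV₁⟩ (Opens.mem_top η)
  have hUT : U ≤ f ⁻¹ᵁ ⊤ := le_top
  let A := Γ(Y, ⊤); let B := Γ(X, U)
  letI : Algebra Γ(Y, ⊤) Γ(X, U) := (f.appLE ⊤ U hUT).hom.toAlgebra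
  haveI : Algebra.FiniteType Γ(Y, ⊤) Γ(X, U) := f.finiteType_appLE hYt hU hUT
  set p := hYt.primeIdealOf ⟨η, Opens.mem_top η⟩
  have hpη : hYt.fromSpec p = η := hYt.fromSpec_primeIdealOf ⟨η, Opens.mem_top η⟩
  obtain ⟨h₁, hh₁, hfinite⟩ := exists_isIntegral_away (A := Γ(Y, ⊤)) (B := Γ(X, U)) p.asIdeal
    (isMinimal_primeIdealOf hYt hη _) (by
      refine Set.Finite.of_finite_image (f := fun q => hU.fromSpec q) (hfin.subset ?_)
        (hU.fromSpec.isOpenEmbedding.injective.injOn)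
      rintro _ ⟨q, hq, rfl⟩
      show f.base (hU.fromSpec q) = η
      rw [fromSpec_comap f hYt hU hUT q]
      exact (congrArg hYt.fromSpec (Set.mem_singleton_iff.mp hq)).trans hpη)
  refine ⟨h₁ * h₀, ?_, ?_⟩
  · rw [Y.basicOpen_mul]
    refine ⟨?_, hηh₀⟩
    rw [← hpη]
    show p ∈ hYt.fromSpec ⁻¹ᵁ Y.basicOpen h₁
    rw [hYt.fromSpec_preimage_basicOpen]
    exact hh₁
  set h' := h₁ * h₀
  have hDV₁ : Y.basicOpen h' ≤ V₁ := by
    refine le_trans ?_ hh₀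
    rw [show Y.basicOpen h' = _ from Y.basicOpen_mul h₁ h₀]
    exact inf_le_right
  have hpre : f ⁻¹ᵁ Y.basicOpen h' = X.basicOpen (f.appLE ⊤ U hUT h') := by
    rw [Scheme.basicOpen_appLE]
    exact (inf_eq_right.mpr ((f.preimage_mono hDV₁).trans hV₁U)).symm
  refine isFinite_restrict_of_appLE f (hYt.basicOpen h') (hU.basicOpen _) hpre ?_
  letI : Algebra Γ(Y, Y.basicOpen h') Γ(X, X.basicOpen (f.appLE ⊤ U hUT h')) :=
    (f.appLE _ _ hpre.ge).hom.toAlgebra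
  letI : Algebra Γ(Y, ⊤) Γ(X, X.basicOpen (f.appLE ⊤ U hUT h')) :=
    ((f.appLE ⊤ U hUT) ≫ X.presheaf.map (homOfLE (X.basicOpen_le _)).op).hom.toAlgebra
  haveI : IsScalarTower Γ(Y, ⊤) Γ(X, U) Γ(X, X.basicOpen (f.appLE ⊤ U hUT h')) :=
    .of_algebraMap_eq fun _ => rfl
  haveI : IsScalarTower Γ(Y, ⊤) Γ(Y, Y.basicOpen h') Γ(X, X.basicOpen (f.appLE ⊤ U hUT h')) := by
    refine .of_algebraMap_eq' ?_
    show _ = (f.appLE _ _ hpre.ge).hom.comp (Y.presheaf.map (homOfLE (Y.basicOpen_le h')).op).hom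
    rw [← CommRingCat.hom_comp, Scheme.Hom.map_appLE]
    show ((f.appLE ⊤ U hUT) ≫ X.presheaf.map (homOfLE (X.basicOpen_le _)).op).hom = _
    rw [Scheme.Hom.appLE_map]
  haveI := hYt.isLocalization_basicOpen h'
  haveI : IsLocalization.Away (algebraMap Γ(Y, ⊤) Γ(X, U) h') Γ(X, X.basicOpen (f.appLE ⊤ U hUT h')) :=
    hU.isLocalization_basicOpen _
  exact hfinite h' (dvd_mul_right _ _) _ _

lemma finite_fibre_of_isFinite_restrict (f : X ⟶ Y) (η : Y) {V : Y.Opens} (hηV : η ∈ V)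
    [IsFinite (f ∣_ V)] : (f.base ⁻¹' {η}).Finite := by
  refine (((f ∣_ V).finite_preimage_singleton ⟨η, hηV⟩).image (f ⁻¹ᵁ V).ι.base).subset fun x hx => ?_
  have hxV : x ∈ f ⁻¹ᵁ V := by
    show f.base x ∈ V
    rw [Set.mem_singleton_iff.mp hx]; exact hηV
  refine ⟨⟨x, hxV⟩, Subtype.ext ?_, rfl⟩
  have h1 := congrArg (fun g => (g : ((f ⁻¹ᵁ V : X.Opens) : Scheme.{u}) ⟶ Y).base ⟨x, hxV⟩) (morphismRestrict_ι f V)
  exact h1.trans hx

lemma isFinite_restrict_mono (f : X ⟶ Y) {V W : Y.Opens} (hWV : W ≤ V) [IsFinite (f ∣_ V)] :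
    IsFinite (f ∣_ W) := by
  have hW : W = V.ι ''ᵁ (V.ι ⁻¹ᵁ W) := by
    rw [Scheme.Hom.image_preimage_eq_opensRange_inf, Scheme.Opens.opensRange_ι, inf_eq_right.mpr hWV]
  rw [hW, ← MorphismProperty.arrow_mk_iso_iff (@IsFinite) (morphismRestrictRestrict f V _)]
  exact IsZariskiLocalAtTarget.restrict (P := @IsFinite) ‹IsFinite (f ∣_ V)› _

/-- The core over an arbitrary base. -/
theorem exists_affine_finite (f : X ⟶ Y) [QuasiCompact f] [LocallyOfFiniteType f]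
    (η : Y) (hη : η ∈ Groth.Agent.Birat.Max Y) (U : X.Opens) (hU : IsAffineOpen U) {V : Y.Opens} (hV : IsAffineOpen V)
    (hηV : η ∈ V) (hUV : U ≤ f ⁻¹ᵁ V) (hfib : f.base ⁻¹' {η} ⊆ U)
    (hfin : (f.base ⁻¹' {η}).Finite) :
    ∃ W : Y.Opens, IsAffineOpen W ∧ η ∈ W ∧ W ≤ V ∧ IsFinite (f ∣_ W) := by
  haveI : IsAffine (V : Scheme.{u}) := hV
  let η' : (V : Scheme.{u}) := ⟨η, hηV⟩
  have hη' : η' ∈ Groth.Agent.Birat.Max (V : Scheme.{u}) := by
    obtain ⟨z, hz, hzη⟩ := exists_max_specializes η'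
    have h1 := eq_of_specializes_max hη (hzη.map V.ι.base.hom.continuous)
    exact (Subtype.ext h1 : z = η') ▸ hz
  have hval : ∀ x : ((f ⁻¹ᵁ V : X.Opens) : Scheme.{u}), ((f ∣_ V).base x).1 = f.base x.1 := fun x =>
    congrArg (fun g => (g : ((f ⁻¹ᵁ V : X.Opens) : Scheme.{u}) ⟶ Y).base x) (morphismRestrict_ι f V)
  let U' : ((f ⁻¹ᵁ V : X.Opens) : Scheme.{u}).Opens := (f ⁻¹ᵁ V).ι ⁻¹ᵁ U
  have hU' : IsAffineOpen U' := by
    refine (Scheme.Hom.isAffineOpen_iff_of_isOpenImmersion (f ⁻¹ᵁ V).ι).mp ?_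
    rw [Scheme.Hom.image_preimage_eq_opensRange_inf, Scheme.Opens.opensRange_ι, inf_eq_right.mpr hUV]
    exact hU
  obtain ⟨h, hh, hfinite⟩ := exists_basicOpen_finite (f ∣_ V) η' hη' U' hU' (fun x hx => hfib (by
      show f.base x.1 = η
      rw [← hval, Set.mem_singleton_iff.mp hx])) (by
      refine Set.Finite.of_finite_image (f := fun x => x.1) (hfin.subset ?_) Subtype.val_injective.injOn
      rintro _ ⟨x, hx, rfl⟩
      show f.base x.1 = η
      rw [← hval, Set.mem_singleton_iff.mp hx])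
  refine ⟨V.ι ''ᵁ (V : Scheme.{u}).basicOpen h, ?_, ⟨η', hh, rfl⟩, V.ι_image_le _, ?_⟩
  · exact ((isAffineOpen_top _).basicOpen h).image_of_isOpenImmersion V.ι
  · rwa [← MorphismProperty.arrow_mk_iso_iff (@IsFinite) (morphismRestrictRestrict f V _)]

lemma isFinite_resLE_of_appLE (f : X ⟶ Y) {W : Y.Opens} {U : X.Opens} (hW : IsAffineOpen W)
    (hU : IsAffineOpen U) (e : U ≤ f ⁻¹ᵁ W) (h : (f.appLE W U e).hom.Finite) :
    IsFinite (f.resLE W U e) := by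
  haveI : IsAffine (W : Scheme.{u}) := hW
  rw [HasAffineProperty.iff_of_isAffine (P := @IsFinite)]
  exact ⟨hU, (RingHom.finite_respectsIso.arrow_mk_iso_iff (arrowResLEAppIso f W U e)).mpr h⟩

/-- Variant without hypotheses on `f`: a finite piece around the points of the fibre in an affine open. -/
theorem exists_resLE_finite (f : X ⟶ Y) [LocallyOfFiniteType f] (η : Y) (hη : η ∈ Groth.Agent.Birat.Max Y)
    (U : X.Opens) (hU : IsAffineOpen U) {V : Y.Opens} (hV : IsAffineOpen V) (hηV : η ∈ V)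
    (hUV : U ≤ f ⁻¹ᵁ V) (hfin : (f.base ⁻¹' {η} ∩ (U : Set X)).Finite) :
    ∃ (U' : X.Opens) (W : Y.Opens) (e : U' ≤ f ⁻¹ᵁ W), IsAffineOpen U' ∧ IsAffineOpen W ∧ η ∈ W ∧
      U' ≤ U ∧ W ≤ V ∧ f.base ⁻¹' {η} ∩ (U : Set X) ⊆ U' ∧ IsFinite (f.resLE W U' e) := by
  haveI : IsAffine (U : Scheme.{u}) := hU
  haveI : IsAffine (V : Scheme.{u}) := hV
  let g := f.resLE V U hUV
  haveI : LocallyOfFiniteType g := inferInstance
  haveI : QuasiCompact g := inferInstance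
  let η' : (V : Scheme.{u}) := ⟨η, hηV⟩
  have hη' : η' ∈ Groth.Agent.Birat.Max (V : Scheme.{u}) := by
    obtain ⟨z, hz, hzη⟩ := exists_max_specializes η'
    have h1 := eq_of_specializes_max hη (hzη.map V.ι.base.hom.continuous)
    exact (Subtype.ext h1 : z = η') ▸ hz
  have hgval : ∀ x : (U : Scheme.{u}), (g.base x).1 = f.base x.1 := fun x =>
    Scheme.Hom.coe_resLE_apply f hUV x
  obtain ⟨h, hh, hfinite⟩ := exists_basicOpen_finite g η' hη' ⊤ (isAffineOpen_top _)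
    (fun _ _ => trivial) (by
      refine Set.Finite.of_finite_image (f := fun x => x.1) (hfin.subset ?_) Subtype.val_injective.injOn
      rintro _ ⟨x, hx, rfl⟩
      refine ⟨?_, x.2⟩
      show f.base x.1 = η
      rw [← hgval, Set.mem_singleton_iff.mp hx])
  set D := (V : Scheme.{u}).basicOpen h
  have hD : IsAffineOpen D := (isAffineOpen_top _).basicOpen h
  have hU1 : IsAffineOpen (g ⁻¹ᵁ D) := hD.preimage g
  have e : U.ι ''ᵁ (g ⁻¹ᵁ D) ≤ f ⁻¹ᵁ (V.ι ''ᵁ D) :=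
    (Scheme.Hom.le_resLE_preimage_iff f hUV D (g ⁻¹ᵁ D)).mp le_rfl
  refine ⟨U.ι ''ᵁ (g ⁻¹ᵁ D), V.ι ''ᵁ D, e, hU1.image_of_isOpenImmersion U.ι,
    hD.image_of_isOpenImmersion V.ι, ⟨η', hh, rfl⟩, U.ι_image_le _, V.ι_image_le _, ?_, ?_⟩
  · rintro x ⟨hx, hxU⟩
    refine ⟨⟨x, hxU⟩, ?_, rfl⟩
    show g.base ⟨x, hxU⟩ ∈ D
    rw [show g.base ⟨x, hxU⟩ = η' from Subtype.ext ((hgval ⟨x, hxU⟩).trans hx)]
    exact hh
  · refine isFinite_resLE_of_appLE f (hD.image_of_isOpenImmersion V.ι) (hU1.image_of_isOpenImmersion U.ι) e ?_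
    haveI : IsAffine (D : Scheme.{u}) := hD
    have h1 : (g.app D).hom.Finite := by
      have h2 := (HasAffineProperty.iff_of_isAffine (P := @IsFinite) (f := g ∣_ D)).mp hfinite
      have h3 := h2.2
      rw [morphismRestrict_appTop] at h3
      have key : ∀ (D' : (V : Scheme.{u}).Opens) (W' : (U : Scheme.{u}).Opens) (i : W' = g ⁻¹ᵁ D'),
          D' = D → (g.app D' ≫ (U : Scheme.{u}).presheaf.map (eqToHom i).op).hom.Finite →
          (g.app D).hom.Finite := by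
        rintro _ _ rfl rfl h4
        have e0 : g.app D ≫ (U : Scheme.{u}).presheaf.map (eqToHom rfl).op = g.app D := by
          simp only [eqToHom_refl, op_id, CategoryTheory.Functor.map_id]
          exact Category.comp_id _
        exact e0 ▸ h4
      exact key _ _ (image_morphismRestrict_preimage g D ⊤) D.ι_image_top h3
    rw [Scheme.Hom.app_eq_appLE, Scheme.Hom.resLE_appLE] at h1
    exact h1

lemma isFinite_restrict_iSup (f : X ⟶ Y) {ι : Type*} (W : ι → Y.Opens) (h : ∀ i, IsFinite (f ∣_ W i)) :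
    IsFinite (f ∣_ ⨆ i, W i) := by
  rw [IsZariskiLocalAtTarget.iff_of_iSup_eq_top (P := @IsFinite) (fun i => (⨆ i, W i).ι ⁻¹ᵁ W i)]
  · intro i
    rw [MorphismProperty.arrow_mk_iso_iff (@IsFinite) (morphismRestrictRestrict f _ _),
      MorphismProperty.arrow_mk_iso_iff (@IsFinite) (morphismRestrictEq f (V := W i) ?_)]
    · exact h i
    · rw [Scheme.Hom.image_preimage_eq_opensRange_inf, Scheme.Opens.opensRange_ι]
      exact inf_eq_right.mpr (le_iSup W i)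
  · exact ((⨆ i, W i).ι.preimage_iSup (U := W)).symm.trans (Scheme.Opens.ι_preimage_self _)

end Groth.Agent.GenFinite
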