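import Mathlib

/-! A finite type algebra with finite fibre over a minimal prime is finite over a neighbourhood of it. -/

set_option autoImplicit false

universe u

open Polynomial TensorProduct

namespace Groth.Agent.GenFinite

variable {A B : Type u} [CommRing A] [CommRing B] [Algebra A B]

/-- One element: a polynomial with leading coefficient outside `p` killing `x`. -/
theorem exists_poly [Algebra.FiniteType A B] (p : Ideal A) [p.IsPrime] (hp : p ∈ minimalPrimes A)
    (hfin : (PrimeSpectrum.comap (algebraMap A B) ⁻¹' {⟨p, ‹_›⟩}).Finite) (x : B) :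
    ∃ G : A[X], G.leadingCoeff ∉ p ∧ aeval x G = 0 := by
  haveI : IsJacobsonRing (p.Fiber B) := isJacobsonRing_of_finiteType (A := p.ResidueField)
  haveI : Module.Finite p.ResidueField (p.Fiber B) := by
    rw [Module.finite_iff_isArtinianRing, isArtinianRing_iff_isNoetherianRing_krullDimLE_zero]
    haveI : Finite (PrimeSpectrum (p.Fiber B)) :=
      (PrimeSpectrum.preimageEquivFiber A B ⟨p, ‹_›⟩).finite_iff.mp hfin
    exact ⟨Algebra.FiniteType.isNoetherianRing p.ResidueField _,
      (PrimeSpectrum.discreteTopology_iff_finite_and_krullDimLE_zero.mp inferInstance).right⟩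
  let y : p.Fiber B := Algebra.TensorProduct.includeRight x
  obtain ⟨G₁, hG₁, hG₁'⟩ := (Algebra.IsIntegral.of_finite p.ResidueField (p.Fiber B)).isIntegral y
  have hG₁0 : G₁ ≠ 0 := hG₁.ne_zero
  let G₀ := IsLocalization.integerNormalization (nonZeroDivisors (A ⧸ p)) G₁
  obtain ⟨b, hb, hbG⟩ : ∃ b : p.ResidueField, b ≠ 0 ∧
      G₀.map (algebraMap (A ⧸ p) p.ResidueField) = C b * G₁ := by
    obtain ⟨c, hc, hcG⟩ := IsLocalization.integerNormalization_spec (nonZeroDivisors (A ⧸ p)) G₁
    refine ⟨algebraMap (A ⧸ p) p.ResidueField c, (map_ne_zero_iff _ (IsFractionRing.injective (A ⧸ p) p.ResidueField)).mpr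
      (nonZeroDivisors.ne_zero hc), ?_⟩
    exact hcG.trans (Algebra.smul_def c G₁)
  have hG₀ : G₀ ≠ 0 := by
    intro h
    rw [h, Polynomial.map_zero] at hbG
    exact mul_ne_zero (C_ne_zero.mpr hb) hG₁0 hbG.symm
  obtain ⟨F, hF, hdeg⟩ : ∃ F : A[X], F.map (Ideal.Quotient.mk p) = G₀ ∧ F.degree = G₀.degree :=
    mem_lifts_and_degree_eq (mem_lifts _ |>.mpr (Polynomial.map_surjective _ Ideal.Quotient.mk_surjective G₀))
  have hlead : F.leadingCoeff ∉ p := by
    intro h
    apply leadingCoeff_ne_zero.mpr hG₀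
    rw [leadingCoeff, ← natDegree_eq_of_degree_eq hdeg, ← hF, coeff_map]
    exact Ideal.Quotient.eq_zero_iff_mem.mpr h
  have hy : Algebra.TensorProduct.includeRight (R := A) (A := p.ResidueField) (aeval x F) = 0 := by
    rw [← aeval_algHom_apply]
    have h1 : F.map (algebraMap A p.ResidueField) = C b * G₁ := by
      rw [← hbG, ← hF, Polynomial.map_map]
      rfl
    rw [← aeval_map_algebraMap p.ResidueField, h1, map_mul]
    show _ * aeval y G₁ = 0
    rw [show aeval y G₁ = 0 from hG₁', mul_zero]
  have hmem : ∀ q : Ideal B, q.IsPrime → q.comap (algebraMap A B) = p → aeval x F ∈ q := by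
    intro q hq hqp
    haveI : q.LiesOver p := ⟨hqp.symm⟩
    let q' := PrimeSpectrum.primesOverOrderIsoFiber A B p ⟨q, hq, inferInstance⟩
    have : q = q'.asIdeal.comap Algebra.TensorProduct.includeRight.toRingHom :=
      congr($((PrimeSpectrum.primesOverOrderIsoFiber A B p).symm_apply_apply ⟨q, hq, inferInstance⟩).1).symm
    rw [this, Ideal.mem_comap]
    show Algebra.TensorProduct.includeRight (R := A) (A := p.ResidueField) (aeval x F) ∈ _
    rw [hy]
    exact zero_mem _
  obtain ⟨g, hg, N, hN⟩ : ∃ g ∉ p, ∃ N : ℕ, (algebraMap A B g * aeval x F) ^ N = 0 := by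
    let S : Submonoid B := Submonoid.map (algebraMap A B) p.primeCompl ⊔ Submonoid.powers (aeval x F)
    by_cases h0 : (0 : B) ∈ S
    · obtain ⟨_, ⟨g, hg, rfl⟩, _, ⟨N, rfl⟩, e⟩ := Submonoid.mem_sup.mp h0
      refine ⟨g, hg, N + 1, ?_⟩
      have e' : algebraMap A B g * aeval x F ^ N = 0 := e
      rw [mul_pow, pow_succ' (algebraMap A B g), pow_succ (aeval x F)]
      calc algebraMap A B g * algebraMap A B g ^ N * (aeval x F ^ N * aeval x F)
          = algebraMap A B g ^ N * (algebraMap A B g * aeval x F ^ N) * aeval x F := by ring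
        _ = 0 := by rw [e']; ring
    · exfalso
      have hdisj : Disjoint (((⊥ : Ideal B)) : Set B) S :=
        Set.disjoint_left.mpr fun a ha ha' => h0 ((Ideal.mem_bot.mp ha) ▸ ha')
      obtain ⟨q, hq, -, hqS⟩ := Ideal.exists_le_prime_disjoint (⊥ : Ideal B) S hdisj
      have hle : q.comap (algebraMap A B) ≤ p := by
        intro a ha
        by_contra h
        exact Set.disjoint_left.mp hqS ha (Submonoid.mem_sup_left ⟨a, h, rfl⟩)
      have heq : q.comap (algebraMap A B) = p :=
        le_antisymm hle (hp.2 ⟨inferInstance, bot_le⟩ hle)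
      exact Set.disjoint_left.mp hqS (hmem q hq heq)
        (Submonoid.mem_sup_right (Submonoid.mem_powers _))
  refine ⟨C (g ^ (N + 1)) * F ^ (N + 1), ?_, ?_⟩
  · rw [leadingCoeff_mul', leadingCoeff_C, leadingCoeff_pow']
    · exact fun h => (Ideal.IsPrime.mem_or_mem ‹_› h).elim (fun h' => hg (Ideal.IsPrime.mem_of_pow_mem ‹_› _ h'))
        (fun h' => hlead (Ideal.IsPrime.mem_of_pow_mem ‹_› _ h'))
    · exact fun h => hlead (Ideal.IsPrime.mem_of_pow_mem ‹_› _ (h ▸ p.zero_mem))
    · rw [leadingCoeff_C]
      intro h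
      have h2 : F.leadingCoeff ^ (N + 1) ≠ 0 := fun e =>
        hlead (Ideal.IsPrime.mem_of_pow_mem ‹_› _ (e ▸ p.zero_mem))
      rw [leadingCoeff_pow' h2] at h
      rcases Ideal.IsPrime.mem_or_mem ‹p.IsPrime› (h ▸ p.zero_mem) with h' | h'
      · exact hg (Ideal.IsPrime.mem_of_pow_mem ‹_› _ h')
      · exact hlead (Ideal.IsPrime.mem_of_pow_mem ‹_› _ h')
  · rw [map_mul, aeval_C, map_pow, map_pow, ← mul_pow, pow_succ, hN, zero_mul]

/-- The denominator working for the whole algebra. -/
theorem exists_isIntegral_away [Algebra.FiniteType A B] (p : Ideal A) [p.IsPrime] (hp : p ∈ minimalPrimes A)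
    (hfin : (PrimeSpectrum.comap (algebraMap A B) ⁻¹' {⟨p, ‹_›⟩}).Finite) :
    ∃ h ∉ p, ∀ h' : A, h ∣ h' → ∀ (A' B' : Type u) [CommRing A'] [CommRing B'] [Algebra A A']
      [IsLocalization.Away h' A'] [Algebra A' B'] [Algebra A B'] [Algebra B B'] [IsScalarTower A A' B']
      [IsScalarTower A B B'] [IsLocalization.Away (algebraMap A B h') B'], Module.Finite A' B' := by
  classical
  obtain ⟨s, hs⟩ := (‹Algebra.FiniteType A B›).out
  choose G hG hG' using fun x : B => exists_poly p hp hfin x
  refine ⟨∏ x ∈ s, (G x).leadingCoeff, fun h => ?_, ?_⟩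
  · obtain ⟨x, -, hx⟩ := (Ideal.IsPrime.prod_mem_iff).mp h
    exact hG x hx
  intro h' hh A' B' _ _ _ _ _ _ _ _ _ _
  have hint : ∀ x ∈ s, IsIntegral A' (algebraMap B B' x) := by
    intro x hx
    have hdvd : (G x).leadingCoeff ∣ h' := (Finset.dvd_prod_of_mem _ hx).trans hh
    have hu : IsUnit (algebraMap A A' (G x).leadingCoeff) :=
      isUnit_of_dvd_unit (map_dvd (algebraMap A A') hdvd) (IsLocalization.Away.algebraMap_isUnit h')
    obtain ⟨v, hv⟩ := hu
    let F := C (v⁻¹ : A'ˣ).1 * (G x).map (algebraMap A A')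
    rcases subsingleton_or_nontrivial A' with h1 | h1
    · haveI := Module.subsingleton A' B'
      rw [Subsingleton.elim (algebraMap B B' x) 0]
      exact isIntegral_zero
    refine ⟨F, ?_, ?_⟩
    · show F.leadingCoeff = 1
      have hne : algebraMap A A' (G x).leadingCoeff ≠ 0 := hv ▸ v.ne_zero
      rw [leadingCoeff_mul', leadingCoeff_C, leadingCoeff_map_of_leadingCoeff_ne_zero _ hne, ← hv,
        Units.inv_mul]
      rw [leadingCoeff_C, leadingCoeff_map_of_leadingCoeff_ne_zero _ hne, ← hv, Units.inv_mul]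
      exact one_ne_zero
    · show aeval (algebraMap B B' x) F = 0
      rw [map_mul, aeval_map_algebraMap, aeval_algebraMap_apply (A := B) (B := B') (R := A), hG', map_zero, mul_zero]
  have hinv : IsIntegral A' (IsLocalization.Away.invSelf (S := B') (algebraMap A B h')) := by
    obtain ⟨v, hv⟩ : IsUnit (algebraMap A A' h') := IsLocalization.Away.algebraMap_isUnit h'
    have : IsLocalization.Away.invSelf (S := B') (algebraMap A B h') = algebraMap A' B' (v⁻¹ : A'ˣ).1 := by
      have h1 := IsLocalization.Away.mul_invSelf (S := B') (algebraMap A B h')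
      rw [← IsScalarTower.algebraMap_apply A B B', IsScalarTower.algebraMap_apply A A' B', ← hv] at h1
      calc IsLocalization.Away.invSelf (S := B') (algebraMap A B h')
          = algebraMap A' B' (v⁻¹ * v).1 * IsLocalization.Away.invSelf (S := B') (algebraMap A B h') := by
            rw [inv_mul_cancel, Units.val_one, map_one, one_mul]
        _ = algebraMap A' B' (v⁻¹ : A'ˣ).1 := by rw [Units.val_mul, map_mul, mul_assoc, h1, mul_one]
    rw [this]
    exact isIntegral_algebraMap
  have hB : ∀ z : B, IsIntegral A' (algebraMap B B' z) := by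
    intro z
    have hz : z ∈ Algebra.adjoin A (s : Set B) := hs ▸ Algebra.mem_top
    induction hz using Algebra.adjoin_induction with
    | mem y hy => exact hint y hy
    | algebraMap a =>
      rw [← IsScalarTower.algebraMap_apply A B B', IsScalarTower.algebraMap_apply A A' B']
      exact isIntegral_algebraMap
    | add a b _ _ ha hb => rw [map_add]; exact ha.add hb
    | mul a b _ _ ha hb => rw [map_mul]; exact ha.mul hb
  haveI : Algebra.IsIntegral A' B' := ⟨fun z => by
    obtain ⟨b, ⟨_, k, rfl⟩, rfl⟩ := IsLocalization.exists_mk'_eq (Submonoid.powers (algebraMap A B h')) z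
    have : IsLocalization.mk' B' b (⟨_, k, rfl⟩ : Submonoid.powers (algebraMap A B h')) =
        algebraMap B B' b * IsLocalization.Away.invSelf (S := B') (algebraMap A B h') ^ k := by
      rw [IsLocalization.mk'_eq_iff_eq_mul, mul_assoc]
      show _ = _ * (_ * algebraMap B B' (algebraMap A B h' ^ k))
      rw [map_pow, ← mul_pow, mul_comm (IsLocalization.Away.invSelf _), IsLocalization.Away.mul_invSelf,
        one_pow, mul_one]
    rw [this]
    exact (hB b).mul (hinv.pow k)⟩
  haveI : Algebra.FiniteType A B' := by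
    haveI : Algebra.FiniteType B B' := IsLocalization.finiteType_of_monoid_fg (Submonoid.powers (algebraMap A B h')) B'
    exact Algebra.FiniteType.trans (S := B) inferInstance inferInstance
  haveI : Algebra.FiniteType A' B' := Algebra.FiniteType.of_restrictScalars_finiteType A A' B'
  exact Algebra.IsIntegral.finite

end Groth.Agent.GenFinite
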